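import Mathlib
import Cfsg.Agent.Lib.StdG.TI1

/-! Standard subgroups with cyclic centralizer: the conjugates of the involution (S3148, part 1). -/

set_option autoImplicit false
set_option linter.unusedSectionVars false

namespace CfsgLib.StdG.Fk

open Subgroup Cfsg CfsgLib.Tech
open scoped commutatorElement

variable {G : Type*} [Group G] [Finite G]

local notation "𝒞[" x "]" => centralizer ({x} : Set G)

theorem mem_c {x y : G} : x ∈ 𝒞[y] ↔ x * y = y * x := mem_centralizer_singleton_iff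

theorem mem_zpowers_odd {y : G} (h : IsPGroup 2 (zpowers y)) (k : ℤ) : y ∈ zpowers (y ^ (2 * k + 1)) := by
  obtain ⟨n, hn⟩ := isPGroup_zpowers_iff.mp h
  obtain ⟨a, b, e⟩ : IsCoprime (2 * k + 1) ((2 : ℤ) ^ n) :=
    IsCoprime.pow_right ⟨1, -k, by ring⟩
  refine ⟨a, ?_⟩
  have h1 : y ^ ((2 : ℤ) ^ n) = 1 := by exact_mod_cast hn ▸ pow_orderOf_eq_one y
  change (y ^ (2 * k + 1)) ^ a = y
  conv_rhs => rw [← zpow_one y, ← e, zpow_add, mul_comm b, zpow_mul y _ b, h1, one_zpow, mul_one]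
  rw [← zpow_mul, mul_comm]

theorem orderOf_sq_lt {e : G} (h : IsPGroup 2 (zpowers e)) (h1 : e ≠ 1) : orderOf (e * e) < orderOf e := by
  obtain ⟨n, hn⟩ := isPGroup_zpowers_iff.mp h
  rcases n with _ | n
  · exact absurd (orderOf_eq_one_iff.mp hn) h1
  rw [← pow_two, orderOf_pow' _ two_ne_zero, hn, pow_succ, Nat.gcd_mul_left_left, Nat.mul_div_cancel _ two_pos]
  have := Nat.two_pow_pos n
  omega

theorem sq_pgroup {e : G} (h : IsPGroup 2 (zpowers e)) : IsPGroup 2 (zpowers (e * e)) :=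
  isPGroup_zpowers_of_mem h (mul_mem (mem_zpowers e) (mem_zpowers e))

theorem exists_sq_mem {K : Subgroup G} : ∀ (n : ℕ) {e : G}, orderOf e = n → IsPGroup 2 (zpowers e) →
    e ∉ K → ∃ x ∈ zpowers e, x ∉ K ∧ x * x ∈ K := by
  intro n
  induction n using Nat.strong_induction_on with | _ n ih => ?_
  intro e hn h he
  by_cases h1 : e * e ∈ K
  · exact ⟨e, mem_zpowers e, he, h1⟩
  obtain ⟨x, hx, h2⟩ := ih _ (hn ▸ orderOf_sq_lt h fun e1 => he (e1 ▸ one_mem K)) rfl (sq_pgroup h) h1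
  exact ⟨x, zpowers_le_of_mem (mul_mem (mem_zpowers e) (mem_zpowers e)) hx, h2⟩

theorem zp_comm {c a b : G} (ha : a ∈ zpowers c) (hb : b ∈ zpowers c) : a * b = b * a :=
  Gold.mul_comm_of_comm inferInstance ha hb

theorem mem_sq {c a : G} : a ∈ zpowers (c * c) ↔ ∃ d ∈ zpowers c, d * d = a := by
  constructor
  · rintro ⟨k, rfl⟩
    exact ⟨c ^ k, zpow_mem_zpowers c k, ((Commute.refl c).mul_zpow k).symm⟩
  · rintro ⟨_, ⟨k, rfl⟩, rfl⟩
    exact ⟨k, (Commute.refl c).mul_zpow k⟩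

theorem mul_mem_sq {c a b : G} (ha : a ∈ zpowers c) (hb : b ∈ zpowers c) (ha' : a ∉ zpowers (c * c))
    (hb' : b ∉ zpowers (c * c)) : a * b ∈ zpowers (c * c) := by
  obtain ⟨i, rfl⟩ := Gold.App.mem_zpowers_sq ha ha'
  obtain ⟨j, rfl⟩ := Gold.App.mem_zpowers_sq hb hb'
  exact mem_sq.mpr ⟨c ^ (i + j + 1), zpow_mem_zpowers _ _, by
    rw [← zpow_add, ← zpow_add]; congr 1; ring⟩

theorem mem_two {z x : G} (hz : z * z = 1) (hx : x ∈ zpowers z) : x = 1 ∨ x = z := by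
  obtain ⟨k, rfl⟩ := hx
  have h2 : z ^ (2 : ℤ) = 1 := by rw [zpow_two, hz]
  rcases Int.even_or_odd' k with ⟨j, rfl | rfl⟩
  · left; simp only [zpow_mul, h2, one_zpow]
  · right; simp only [zpow_add, zpow_mul, h2, one_zpow, one_mul, zpow_one]

theorem conj_zpow_of {y c : G} {k : ℤ} (h : y * c * y⁻¹ = c ^ k) {w : G} (hw : w ∈ zpowers c) :
    y * w * y⁻¹ = w ^ k := by
  obtain ⟨i, rfl⟩ := hw
  simp only [← conj_zpow, h, ← zpow_mul, mul_comm]

/-- if `u` inverts `v`, then `u v^k` is conjugate to `u` or `u v` -/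
theorem dih {u v : G} (h : u⁻¹ * v * u = v⁻¹) {w : G} (hw : w ∈ zpowers v) :
    ∃ d ∈ zpowers v, u * w = d * u * d⁻¹ ∨ u * w = d * (u * v) * d⁻¹ := by
  have h1 : ∀ j : ℤ, v ^ (-j) * u = u * v ^ j := fun j => by
    have := conj_zpow_of (y := u⁻¹) (k := -1) (by simpa using h) (zpow_mem_zpowers v (-j))
    calc v ^ (-j) * u = u * (u⁻¹ * v ^ (-j) * u⁻¹⁻¹) := by group
      _ = _ := by rw [this]; group
  obtain ⟨k, rfl⟩ := hw
  rcases Int.even_or_odd' k with ⟨j, rfl | rfl⟩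
  · exact ⟨v ^ (-j), zpow_mem_zpowers _ _, Or.inl (by rw [h1]; group)⟩
  · exact ⟨v ^ (-j), zpow_mem_zpowers _ _, Or.inr (by rw [← mul_assoc, h1]; group)⟩

/-- the situation of a counterexample -/
structure Cf (A : Subgroup G) (z : G) : Prop where
  qs : IsQuasisimple A
  zK : z ∈ centralizer (A : Set G)
  zz : z * z = 1
  z1 : z ≠ 1
  nm : 𝒞[z] ≤ normalizer (A : Set G)
  uq : ∀ y ∈ centralizer (A : Set G), y * y = 1 → y * z = z * y → y = 1 ∨ y = z
  rt : ∀ P : Subgroup G, IsPGroup 2 P → P ≤ 𝒞[z] → ∃ r ∈ centralizer (A : Set G), r * r = z ∧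
    ∀ x ∈ P, x * r * x⁻¹ = r ∨ x * r * x⁻¹ = r⁻¹
  nc : ∀ t, IsConj z t → t ≠ z → t * z = z * t → ∀ r ∈ centralizer (A : Set G), r * r = z → t * r ≠ r * t
  ex : ∃ t, IsConj z t ∧ t ≠ z ∧ t * z = z * t

namespace Cf

variable {A : Subgroup G} {z : G} (h : Cf A z)
include h

theorem sq {t : G} (ht : IsConj z t) : t * t = 1 := by
  obtain ⟨g, rfl⟩ := isConj_iff.mp ht
  rw [conj_mul, h.zz, mul_one, mul_inv_cancel]

theorem two {t : G} (ht : IsConj z t) : IsPGroup 2 (zpowers t) :=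
  isPGroup_zpowers_of_pow (k := 1) (by rw [pow_one, pow_two, h.sq ht])

theorem nsq' {t x : G} (ht : IsConj z t) (h1 : t ≠ z) (hx : x * z = z * x) : x * x ≠ t := fun e => by
  obtain ⟨r, hr, rr, h2⟩ := h.rt (zpowers x) (isPGroup_zpowers_of_pow (k := 2) (by
    rw [show 2 ^ 2 = 2 * 2 from rfl, pow_mul, pow_two x, e, pow_two, h.sq ht])) (zpowers_le_of_mem (mem_c.mpr hx))
  refine h.nc t ht h1 (by rw [← e, mul_assoc, hx, ← mul_assoc, hx, mul_assoc]) r hr rr ?_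
  rw [← mul_inv_eq_iff_eq_mul, ← e, show x * x * r * (x * x)⁻¹ = x * (x * r * x⁻¹) * x⁻¹ by group]
  rcases h2 x (mem_zpowers x) with e1 | e1 <;> rw [e1]
  · exact e1
  · rw [← conj_inv, e1, inv_inv]

/-- `z` is not a square in the centralizer of another conjugate -/
theorem nsq {t x : G} (ht : IsConj z t) (h1 : t ≠ z) (hx : x * t = t * x) : x * x ≠ z := fun e => by
  obtain ⟨g, rfl⟩ := isConj_iff.mp ht
  refine h.nsq' (t := g⁻¹ * z * g) (x := g⁻¹ * x * g) (isConj_iff.mpr ⟨g⁻¹, by simp⟩)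
    (fun e1 => h1 (by
      calc g * z * g⁻¹ = g * (g⁻¹ * z * g) * g⁻¹ := by rw [e1]
        _ = z := by group)) ?_ (by rw [← e]; group)
  calc g⁻¹ * x * g * z = g⁻¹ * (x * (g * z * g⁻¹)) * g := by group
    _ = _ := by rw [hx]; group

theorem conj_mul' {t : G} (ht : IsConj z t) (h1 : t ≠ z) (hc : t * z = z * t) : IsConj z (z * t) := by
  obtain ⟨r, hr, rr, h2⟩ := h.rt _ (h.two ht) (zpowers_le_of_mem (mem_c.mpr hc))
  have e := (h2 t (mem_zpowers t)).resolve_left fun e => h.nc t ht h1 hc r hr rr (mul_inv_eq_iff_eq_mul.mp e)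
  refine ht.trans (isConj_iff.mpr ⟨r, ?_⟩)
  calc r * t * r⁻¹ = r * (t * r * t⁻¹)⁻¹ * t := by group
    _ = _ := by rw [e, inv_inv, rr]

theorem conj_mul {a b : G} (ha : IsConj z a) (hb : IsConj z b) (h1 : a ≠ b) (hc : a * b = b * a) :
    IsConj z (a * b) := by
  obtain ⟨g, rfl⟩ := isConj_iff.mp ha
  refine (h.conj_mul' (t := g⁻¹ * b * g) (hb.trans (isConj_iff.mpr ⟨g⁻¹, by simp⟩))
    (fun e => h1 (by rw [← e]; group)) ?_).trans (isConj_iff.mpr ⟨g, by group⟩)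
  calc g⁻¹ * b * g * z = g⁻¹ * (b * (g * z * g⁻¹)) * g := by group
    _ = _ := by rw [← hc]; group

end Cf

/-- the conjugates of `z` in `S` other than `z` -/
def Dl (z : G) (S : Subgroup G) (δ : G) : Prop := δ ∈ S ∧ IsConj z δ ∧ δ ≠ z

theorem conj_ne {z g δ : G} (hg : g * z = z * g) (h : δ ≠ z) : g * δ * g⁻¹ ≠ z := fun e => h (by
  rw [mul_inv_eq_iff_eq_mul, ← hg] at e; exact mul_left_cancel e)

/-- a Sylow subgroup of the centralizer -/
structure Sy (A : Subgroup G) (z : G) (S : Subgroup G) (r : G) : Prop extends Cf A z where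
  syl : IsSylowIn 2 S 𝒞[z]
  rr : r * r = z
  inv : ∀ δ, Dl z S δ → δ * r * δ⁻¹ = r⁻¹

theorem Cf.exists_sy {A : Subgroup G} {z : G} (h : Cf A z) : ∃ S r t, Sy A z S r ∧ Dl z S t := by
  obtain ⟨t, ht, t1, tz⟩ := h.ex
  obtain ⟨S, hS, h1⟩ := exists_isSylowIn_ge (h.two ht) (zpowers_le_of_mem (mem_c.mpr tz))
  obtain ⟨r, hr, rr, h2⟩ := h.rt S hS.pgroup hS.le
  exact ⟨S, r, t, ⟨h, hS, rr, fun δ hδ => (h2 δ hδ.1).resolve_left fun e =>
    h.nc δ hδ.2.1 hδ.2.2 (mem_c.mp (hS.le hδ.1)) r hr rr (mul_inv_eq_iff_eq_mul.mp e)⟩,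
    h1 (mem_zpowers t), ht, t1⟩

namespace Sy

variable {A S : Subgroup G} {z r : G} (h : Sy A z S r)
include h

theorem cz {x : G} (hx : x ∈ S) : x * z = z * x := mem_c.mp (h.syl.le hx)

theorem two' {x : G} (hx : x ∈ S) : IsPGroup 2 (zpowers x) := isPGroup_zpowers_of_mem h.syl.pgroup hx

theorem zS : z ∈ S := h.syl.le_of_le_normalizer (h.two (IsConj.refl z)) (zpowers_le_of_mem (mem_c.mpr rfl))
  (fun x hx => norm_of_forall_comm fun _ hv => by
    obtain ⟨k, rfl⟩ := hv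
    exact (show Commute x z from mem_c.mp hx).zpow_right k) (mem_zpowers z)

theorem conj {δ s : G} (hδ : Dl z S δ) (hs : s ∈ S) : Dl z S (s * δ * s⁻¹) :=
  ⟨mul_mem (mul_mem hs hδ.1) (inv_mem hs), hδ.2.1.trans (isConj_iff.mpr ⟨s, rfl⟩), conj_ne (h.cz hs) hδ.2.2⟩

theorem dsq {δ : G} (hδ : Dl z S δ) : δ * δ = 1 := h.sq hδ.2.1

theorem dinv {δ : G} (hδ : Dl z S δ) : δ⁻¹ = δ := inv_eq_of_mul_eq_one_right (h.dsq hδ)

theorem not_dl {a b : G} (ha : Dl z S a) (hb : Dl z S b) : ¬ Dl z S (a * b) := fun e => by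
  have h1 := h.inv _ e
  rw [show a * b * r * (a * b)⁻¹ = a * (b * r * b⁻¹) * a⁻¹ by group, h.inv b hb, ← conj_inv, h.inv a ha,
    inv_inv, eq_inv_iff_mul_eq_one, h.rr] at h1
  exact h.z1 h1

theorem z_mem : ∀ (n : ℕ) {a b : G}, Dl z S a → Dl z S b → orderOf (a * b) = n → a * b ≠ 1 →
    z ∈ zpowers (a * b) := by
  intro n
  induction n using Nat.strong_induction_on with | _ n ih => ?_
  intro a b ha hb hn h1
  by_cases h2 : a * b * (a * b) = 1
  · have hc : a * b = b * a := by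
      rw [← inv_eq_of_mul_eq_one_right h2, mul_inv_rev, h.dinv ha, h.dinv hb]
    by_contra h3
    exact h.not_dl ha hb ⟨mul_mem ha.1 hb.1, h.conj_mul ha.2.1 hb.2.1
      (fun e => h1 (by rw [e, h.dsq hb])) hc, fun e => h3 (e ▸ mem_zpowers _)⟩
  · have e : a * b * a⁻¹ * b = a * b * (a * b) := by rw [h.dinv ha]; group
    have := ih _ (hn ▸ orderOf_sq_lt (h.two' (mul_mem ha.1 hb.1)) h1) (h.conj hb ha.1) hb (by rw [e])
      (by rwa [e])
    rw [e] at this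
    exact zpowers_le_of_mem (mul_mem (mem_zpowers _) (mem_zpowers _)) this

theorem mem_z {t y : G} (ht : Dl z S t) (hy : y ∈ S) (hc : y * t = t * y) (hz : z ∈ zpowers y) :
    y = 1 ∨ y = z := by
  by_cases h1 : z ∈ zpowers (y * y)
  · obtain ⟨d, ⟨k, rfl⟩, e⟩ := mem_sq.mp h1
    exact absurd e (h.nsq ht.2.1 ht.2.2 ((show Commute y t from hc).zpow_left k))
  · obtain ⟨k, e⟩ := Gold.App.mem_zpowers_sq hz h1
    exact mem_two h.zz (e ▸ mem_zpowers_odd (h.two' hy) k)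

end Sy

/-- the even part of the dihedral group generated by the conjugates of `z` -/
structure Cy (A : Subgroup G) (z : G) (S : Subgroup G) (r c : G) : Prop extends Sy A z S r where
  cS : c ∈ S
  mul : ∀ a b, Dl z S a → Dl z S b → a * b ∈ zpowers c
  dl : ∀ w ∈ zpowers c, ∀ δ, Dl z S δ → Dl z S (w * δ)
  nS : ∀ s ∈ S, s * c * s⁻¹ ∈ zpowers c

theorem Sy.exists_cy {A S : Subgroup G} {z r t : G} (h : Sy A z S r) (ht : Dl z S t) :
    ∃ c, Cy A z S r c := by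
  obtain ⟨δ₀, h0, hmax⟩ := (Set.toFinite {δ | Dl z S δ}).exists_maximalFor (fun δ => orderOf (δ * t)) _ ⟨t, ht⟩
  have hm : ∀ δ, Dl z S δ → orderOf (δ * t) ≤ orderOf (δ₀ * t) := fun δ hδ => by
    by_contra hn
    exact hn (hmax hδ (not_le.mp hn).le)
  have cS := mul_mem h0.1 ht.1
  have k1 : ∀ w ∈ zpowers (δ₀ * t), Dl z S (w * t) := fun w hw => by
    obtain ⟨d, hd, e⟩ := dih (u := t) (v := t * δ₀) (by rw [mul_inv_rev, h.dinv ht, h.dinv h0, ← mul_assoc,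
      h.dsq ht, one_mul]) (w := t * w * t) (by
        obtain ⟨k, rfl⟩ := hw
        refine ⟨k, ?_⟩
        change (t * δ₀) ^ k = t * (δ₀ * t) ^ k * t
        rw [show t * (δ₀ * t) ^ k * t = t * (δ₀ * t) ^ k * t⁻¹ by rw [h.dinv ht], ← conj_zpow]
        congr 1; group)
    have hdS := zpowers_le_of_mem (mul_mem ht.1 h0.1) hd
    rw [← mul_assoc, ← mul_assoc, h.dsq ht, one_mul, ← mul_assoc t t, h.dsq ht, one_mul] at e
    rcases e with e | e <;> rw [e]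
    exacts [h.conj ht hdS, h.conj h0 hdS]
  have hz : z ∈ zpowers (δ₀ * t) := h.z_mem _ h0 ht rfl fun e => by
    have := hm (z * t) ⟨mul_mem h.zS ht.1, h.conj_mul' ht.2.1 ht.2.2 (h.cz ht.1), fun e1 =>
      h.z1 (isConj_one_left.mp (mul_eq_left.mp e1 ▸ ht.2.1))⟩
    rw [e, orderOf_one, mul_assoc, h.dsq ht, mul_one] at this
    exact h.z1 (orderOf_eq_one_iff.mp (le_antisymm this (orderOf_pos z)))
  have k2 : ∀ n, ∀ δ, Dl z S δ → orderOf (δ * t) = n → δ * t ∈ zpowers (δ₀ * t) := by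
    intro n
    induction n using Nat.strong_induction_on with | _ n ih => ?_
    intro δ hδ hn
    by_cases h1 : δ * t = 1
    · rw [h1]; exact one_mem _
    have hl := orderOf_sq_lt (h.two' (mul_mem hδ.1 ht.1)) h1
    have e : δ * t * δ⁻¹ * t = δ * t * (δ * t) := by rw [h.dinv hδ]; group
    have h2 := ih _ (hn ▸ hl) _ (h.conj ht hδ.1) (by rw [e])
    rw [e] at h2
    obtain ⟨d, hd, e1⟩ : ∃ d ∈ zpowers (δ₀ * t), d * d = δ * t * (δ * t) := mem_sq.mp (by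
      by_contra h3
      obtain ⟨k, e1⟩ := Gold.App.mem_zpowers_sq h2 h3
      have := Nat.le_of_dvd (orderOf_pos _) (orderOf_dvd_of_mem_zpowers (e1 ▸ mem_zpowers_odd (h.two' cS) k))
      have := hm δ hδ
      omega)
    have h3 := k1 d hd
    have e2 : d * t * δ * t = t * (d * t * δ) := by
      have e3 := h.dsq h3
      have e4 := h.dsq ht
      have e5 := h.dsq hδ
      calc d * t * δ * t = d * t * (δ * t * (δ * t)) * t⁻¹ * δ⁻¹ := by group
        _ = (d * t * (d * t)) * t⁻¹ * d * t⁻¹ * δ⁻¹ := by rw [← e1]; group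
        _ = _ := by rw [e3, h.dinv ht, h.dinv hδ]; group
    have h4 : d * t * δ ∈ zpowers (δ₀ * t) := by
      by_cases h5 : d * t * δ = 1
      · rw [h5]; exact one_mem _
      · rcases h.mem_z ht (mul_mem h3.1 hδ.1) e2 (h.z_mem _ h3 hδ rfl h5) with e3 | e3 <;> rw [e3]
        exacts [one_mem _, hz]
    have := mul_mem (inv_mem h4) hd
    rwa [show (d * t * δ)⁻¹ * d = δ⁻¹ * t⁻¹ by group, h.dinv ht, h.dinv hδ] at this
  have k3 : ∀ a b, Dl z S a → Dl z S b → a * b ∈ zpowers (δ₀ * t) := fun a b ha hb => by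
    have := mul_mem (k2 _ a ha rfl) (inv_mem (k2 _ b hb rfl))
    rwa [show a * t * (b * t)⁻¹ = a * b⁻¹ by group, h.dinv hb] at this
  refine ⟨δ₀ * t, h, cS, k3, fun w hw δ hδ => ?_, fun s hs => ?_⟩
  · have := k1 _ (mul_mem hw (k3 δ t hδ ht))
    rwa [mul_assoc, mul_assoc, h.dsq ht, mul_one] at this
  · rw [← conj_mul]; exact k3 _ _ (h.conj h0 hs) (h.conj ht hs)

end CfsgLib.StdG.Fk
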