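import Mathlib
import Cfsg.Agent.Lib.StdG.Fk1
import Cfsg.Agent.Lib.ZStarApp.Basic

/-! Standard subgroups with cyclic centralizer: the quaternion group (S3148, part 2). -/

set_option autoImplicit false
set_option linter.unusedSectionVars false

namespace CfsgLib.StdG.Fk

open Subgroup Cfsg CfsgLib.Tech
open scoped commutatorElement

variable {G : Type*} [Group G] [Finite G]

local notation "𝒞[" x "]" => centralizer ({x} : Set G)

/-- Z* for a 2-element acting on a quasisimple group -/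
theorem zstar_qs {A P : Subgroup G} (hA : IsQuasisimple A) (hP : IsPGroup 2 P)
    (hn : P ≤ normalizer (A : Set G)) (hS : IsSylowIn 2 (P ⊓ A) A) {x : G} (hx : x ∈ P)
    (h : ∀ a ∈ A, a * x * a⁻¹ ∈ P → a * x * a⁻¹ * x⁻¹ ∈ centralizer (A : Set G)) :
    x ∈ centralizer (A : Set G) := by
  set B := zpowers x ⊔ A with hB
  have hBn : B ≤ normalizer (A : Set G) := sup_le (zpowers_le_of_mem (hn hx)) le_normalizer
  have dec : ∀ b ∈ B, ∃ a ∈ A, ∃ k : ℤ, b = a * x ^ k := fun b hb => by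
    obtain ⟨_, ⟨k, rfl⟩, a, ha, rfl⟩ := (Core.mem_sup_of_le_normalizer_right
      (zpowers_le_of_mem (hn hx))).mp hb
    exact ⟨_, conj_mem_of_mem_normalizer (zpow_mem (hn hx) k) ha, k, by simp⟩
  have hxB : x ∈ B := mem_sup_left (mem_zpowers x)
  have hS' : IsSylowIn 2 (P ⊓ B) B := isSylowIn_of_maximal hP.to_inf_left inf_le_right fun R hR h1 h2 y hy => by
    obtain ⟨a, ha, k, rfl⟩ := dec y (h2 hy)
    have h3 : a ∈ R ⊓ A := ⟨(mul_mem_cancel_right (zpow_mem (h1 ⟨hx, hxB⟩) k)).mp hy, ha⟩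
    rw [hS.eq_of_le hR.to_inf_left (le_inf ((inf_le_inf_left P le_sup_right).trans h1) inf_le_right)
      inf_le_right] at h3
    exact ⟨mul_mem h3.1 (zpow_mem hx k), h2 hy⟩
  set C := (centralizer (A : Set G)).subgroupOf B with hC
  have : C.Normal := normal_subgroupOf_of_le_normalizer (hBn.trans (Core.normalizer_le_normalizer_centralizer _))
  set f := QuotientGroup.mk' C
  have hf : Function.Surjective f := QuotientGroup.mk'_surjective C
  have key := ZStarApp.commutator_mem_of_weaklyClosed (hS'.toSylow.mapSurjective hf) (x := f ⟨x, hxB⟩)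
    ⟨_, ⟨hx, hxB⟩, rfl⟩ fun g hg => by
      obtain ⟨g, rfl⟩ := hf g
      obtain ⟨s, hs, e⟩ := hg
      rw [← map_inv, ← map_mul, ← map_mul] at e ⊢
      have h1 : g * ⟨x, hxB⟩ * g⁻¹ ∈ (hS'.toSylow : Subgroup B) ⊔ C := by
        simpa using mul_mem (mem_sup_left hs) (mem_sup_right (QuotientGroup.eq.1 e))
      obtain ⟨j, hj⟩ := isPGroup_zpowers_iff.mp (isPGroup_zpowers_of_mem hP hx)
      obtain ⟨t, ht, c, hc, h2⟩ := ZStarApp.exists_conj_mem_of_mem_sup hS'.toSylow C (k := j)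
        (by rw [← hj, ← orderOf_coe]; simpa using (MulAut.conj (g : G)).orderOf_eq x) h1
      obtain ⟨a, ha, k, e1⟩ := dec _ (c * g).2
      have h3 : c * (g * ⟨x, hxB⟩ * g⁻¹) * c⁻¹ ∈ (hS'.toSylow : Subgroup B) := by
        convert mul_mem (mul_mem (inv_mem ht) h2) ht using 1; group
      have e2 : ((c * (g * ⟨x, hxB⟩ * g⁻¹) * c⁻¹ : B) : G) = a * x * a⁻¹ := by
        calc _ = ((c * g : B) : G) * x * ((c * g : B) : G)⁻¹ := by push_cast; group
          _ = _ := by rw [e1]; group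
      have h4 : f (c * (g * ⟨x, hxB⟩ * g⁻¹) * c⁻¹ * (⟨x, hxB⟩ : B)⁻¹) = 1 :=
        (QuotientGroup.eq_one_iff _).mpr (by
          rw [hC, mem_subgroupOf, coe_mul, e2]; exact h a ha (e2 ▸ h3.1))
      have h5 : f c = 1 := (QuotientGroup.eq_one_iff c).mpr hc
      rwa [map_mul, map_mul, map_mul, map_inv, h5, one_mul, inv_one, mul_one, map_inv, mul_inv_eq_one] at h4
  let φ : A →* B ⧸ C := f.comp (inclusion le_sup_right)
  rcases Comp.qs_normal hA ((pPrimeCore 2 (B ⧸ C)).comap φ) inferInstance with e | e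
  · have h1 := Comp.eq_bot_of_perfect_of_le_solvable (L := (⊤ : Subgroup A).map φ)
      (by rw [← map_commutator]; exact congrArg _ hA.1.commutator_eq_top) (map_le_iff_le_comap.mpr e.ge)
      (FT.odd_order_solvable (Core.odd_card_oddCore _))
    exact absurd (fun a ha => (QuotientGroup.eq_one_iff (N := C) ⟨a, mem_sup_right ha⟩).mp
      (h1.le ⟨⟨a, ha⟩, mem_top _, rfl⟩)) (Comp.qs_sub_not_le_centralizer hA)
  · have h1 : ⁅zpowers x, A⁆ ≤ centralizer (A : Set G) := by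
      rw [commutator_le]
      rintro _ ⟨k, rfl⟩ a ha
      have h2 := e (x := ⟨⁅x, a⁆, cm_mem_right (hn hx) ha⟩) (key (φ ⟨a, ha⟩))
      rw [Comp.center_eq_subgroupOf_centralizer] at h2
      have h3 : f ⁅(⟨x, hxB⟩ : B), ⟨a, mem_sup_right ha⟩⁆ = 1 := (QuotientGroup.eq_one_iff _).mpr h2
      rw [map_commutatorElement, commutatorElement_eq_one_iff_commute] at h3
      have h4 := commutatorElement_eq_one_iff_commute.mpr (h3.zpow_left k)
      rw [← map_zpow, ← map_commutatorElement] at h4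
      exact (QuotientGroup.eq_one_iff (N := C) _).mp h4
    exact le_centralizer_iff.mp (commutator_eq_bot_iff_le_centralizer.mp
      (Comp.commutator_eq_bot_of_perfect (Comp.qs_sub_perfect hA)
        (commutator_eq_bot_iff_le_centralizer.mpr h1))) (mem_zpowers x)

theorem mem_norm_zp {g w : G} (h : g * w * g⁻¹ ∈ zpowers w) : g ∈ normalizer ((zpowers w : Subgroup G) : Set G) :=
  mem_normalizer_of_cj_le (by rw [cj_zpowers]; exact zpowers_le_of_mem h)

/-- elements of order four swapping the two classes of four-groups -/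
structure Out (z : G) (S : Subgroup G) (c y : G) : Prop where
  mem : y ∈ S
  sq : y * y = z
  inv : ∀ w ∈ zpowers c, y * w * y⁻¹ = w⁻¹
  gen : ∀ δ, Dl z S δ → ⁅y, δ⁆ ∉ zpowers (c * c)

namespace Cy

variable {A S : Subgroup G} {z r c t : G} (h : Cy A z S r c)
include h

theorem le : zpowers c ≤ S := zpowers_le_of_mem h.cS

theorem inv' {δ w : G} (hδ : Dl z S δ) (hw : w ∈ zpowers c) : δ * w * δ⁻¹ = w⁻¹ := by
  rw [h.dinv hδ, eq_inv_iff_mul_eq_one]
  calc δ * w * δ * w = δ * (w * δ * (w * δ)) * δ⁻¹ := by group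
    _ = 1 := by rw [h.dsq (h.dl w hw δ hδ)]; group

theorem nW {s w : G} (hs : s ∈ S) (hw : w ∈ zpowers c) : s * w * s⁻¹ ∈ zpowers w := by
  obtain ⟨k, hk⟩ := h.nS s hs
  rw [conj_zpow_of hk.symm hw]; exact zpow_mem_zpowers w k

theorem cm_mem {y δ : G} (hy : y ∈ S) (hδ : Dl z S δ) : ⁅y, δ⁆ ∈ zpowers c := by
  rw [commutatorElement_def, h.dinv hδ]; exact h.mul _ _ (h.conj hδ hy) hδ

theorem lemK {w n δ : G} (hw : w ∈ zpowers c) (hn : n * z = z * n) (hS : n * w * n⁻¹ ∈ S) (hδ : Dl z S δ)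
    (e : δ * (n * w * n⁻¹) * δ⁻¹ ∈ zpowers (n * w * n⁻¹)) : n * w * n⁻¹ ∈ zpowers c := by
  have hH := h.syl.of_le (K := 𝒞[z] ⊓ normalizer ((zpowers w : Subgroup G) : Set G))
    (le_inf h.syl.le fun s hs => mem_norm_zp (h.nW hs hw)) inf_le_left
  have hnz : n ∈ 𝒞[z] := mem_c.mpr hn
  have c1 : IsConj z (n⁻¹ * δ * n) := hδ.2.1.trans (isConj_iff.mpr ⟨n⁻¹, by simp⟩)
  obtain ⟨b, hb, h1⟩ := hH.exists_conj_mem (x := n⁻¹ * δ * n)
    (mem_inf.mpr ⟨mul_mem (mul_mem (inv_mem hnz) (h.syl.le hδ.1)) hnz, mem_norm_zp (by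
      rw [← cj_zpowers, mem_cj] at e; convert e using 1; group)⟩) (h.two c1)
  have hm := mem_c.mp (mul_mem (mem_inf.mp hb).1 (inv_mem hnz))
  have h2 := h.dl _ (zpowers_le_of_mem hw (conj_mem_of_mem_normalizer hb.2 (mem_zpowers w))) _
    ⟨h1, c1.trans (isConj_iff.mpr ⟨b, rfl⟩), by
      convert conj_ne hm hδ.2.2 using 1; group⟩
  have e1 : b * w * b⁻¹ * (b * (n⁻¹ * δ * n) * b⁻¹) = b * n⁻¹ * (n * w * n⁻¹ * δ) * (b * n⁻¹)⁻¹ := by group
  rw [e1] at h2
  have := h.mul _ δ ⟨mul_mem hS hδ.1, h2.2.1.trans (isConj_iff.mpr ⟨(b * n⁻¹)⁻¹, by group⟩),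
    fun e2 => h2.2.2 (by rw [e2, hm, mul_inv_cancel_right])⟩ hδ
  rwa [mul_assoc, h.dsq hδ, mul_one] at this

variable (ht : Dl z S t)
include ht

theorem z_mem' {w : G} (hw : w ∈ zpowers c) (w1 : w ≠ 1) : z ∈ zpowers w := by
  have e : w * t * t = w := by rw [mul_assoc, h.dsq ht, mul_one]
  have := h.z_mem _ (h.dl w hw t ht) ht rfl (by rwa [e])
  rwa [e] at this

theorem invol {w : G} (hw : w ∈ zpowers c) (e : w * w = 1) : w = 1 ∨ w = z := by
  by_cases w1 : w = 1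
  · exact Or.inl w1
  · exact Or.inr ((mem_two e (h.z_mem' ht hw w1)).resolve_left h.z1).symm

theorem sq_eq {u v : G} (hu : u ∈ zpowers c) (hv : v ∈ zpowers c) (e : u * u = v * v) : u = v ∨ u = z * v := by
  have := h.invol ht (mul_mem hu (inv_mem hv)) (by
    calc u * v⁻¹ * (u * v⁻¹) = u * (v⁻¹ * u) * v⁻¹ := by group
      _ = u * u * v⁻¹ * v⁻¹ := by rw [← zp_comm hu (inv_mem hv)]; group
      _ = 1 := by rw [e]; group)
  rwa [mul_inv_eq_one, mul_inv_eq_iff_eq_mul] at this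

theorem zc : z ∈ zpowers c := by
  have := h.mul (z * t) t ⟨mul_mem h.zS ht.1, h.conj_mul' ht.2.1 ht.2.2 (h.cz ht.1), fun e1 =>
      h.z1 (isConj_one_left.mp (mul_eq_left.mp e1 ▸ ht.2.1))⟩ ht
  rwa [mul_assoc, h.dsq ht, mul_one] at this

theorem lemL {y : G} (hy : y ∈ S) (h1 : y * y ∈ zpowers c) (h2 : y * y ≠ 1) :
    (∃ δ, Dl z S δ ∧ ⁅y, δ⁆ ∈ zpowers (y * y)) ∨ Out z S c y := by
  obtain ⟨k, hk⟩ := h.nS y hy
  have hp : ∀ w ∈ zpowers c, y * w * y⁻¹ = w ^ k := fun w hw => conj_zpow_of hk.symm hw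
  have h4 : ∀ δ, Dl z S δ → ⁅y, δ⁆ ^ (k + 1) = y * y * (y * y) := fun δ hδ => by
    rw [zpow_add_one, ← hp _ (h.cm_mem hy hδ), ← cm_mul_left, commutatorElement_def, mul_assoc, mul_assoc,
      ← mul_assoc δ, h.inv' hδ (inv_mem h1), inv_inv]
  rcases Int.even_or_odd' k with ⟨j, rfl | rfl⟩
  · have h3 := orderOf_sq_lt (h.two' h.cS) fun e => h.z1 (by simpa [e] using h.zc ht)
    have h5 := Nat.le_of_dvd (orderOf_pos _) (orderOf_dvd_of_mem_zpowers (mem_sq.mpr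
      ⟨c ^ j, zpow_mem_zpowers c j, show c ^ j * c ^ j = y * c * y⁻¹ by rw [← hk, ← zpow_add, two_mul]⟩))
    have h6 : orderOf (y * c * y⁻¹) = orderOf c := (MulAut.conj y).orderOf_eq c
    omega
  rcases Int.even_or_odd' j with ⟨i, rfl | rfl⟩
  · refine Or.inl ⟨t, ht, zpowers_le_of_mem ?_ (mem_zpowers_odd (h.two' (h.le (h.cm_mem hy ht))) i)⟩
    rcases h.sq_eq ht (zpow_mem (h.cm_mem hy ht) (2 * i + 1)) h1 (by
      rw [← h4 t ht, ← zpow_add]; congr 1; ring) with e | e <;> rw [e]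
    exacts [mem_zpowers _, mul_mem (h.z_mem' ht h1 h2) (mem_zpowers _)]
  have h5 : y * y = z := (h.invol ht h1 (by
    have e : (y * y * (y * y)) ^ (2 * i + 1) = 1 := by
      have := hp _ h1
      rw [show y * (y * y) * y⁻¹ = y * y by group, zpow_add_one, eq_comm, mul_eq_right] at this
      rw [← this, zpow_mul, zpow_two]
    simpa [e] using mem_zpowers_odd (h.two' (h.le (mul_mem h1 h1))) i)).resolve_left h2
  by_cases h6 : ∃ δ, Dl z S δ ∧ ⁅y, δ⁆ ∈ zpowers (c * c)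
  · obtain ⟨δ, hδ, e⟩ := h6
    obtain ⟨l, hl⟩ := zpowers_le_of_mem (mem_zpowers_odd (sq_pgroup (h.two' h.cS)) i) e
    refine Or.inl ⟨_, h.dl _ (zpow_mem_zpowers c (-l)) δ hδ, ?_⟩
    rw [show ⁅y, c ^ (-l) * δ⁆ = y * c ^ (-l) * y⁻¹ * ⁅y, δ⁆ * (c ^ (-l))⁻¹ by
      simp only [commutatorElement_def]; group, hp _ (zpow_mem_zpowers c _), ← hl]
    simp only [← zpow_two, ← zpow_mul, ← zpow_neg, ← zpow_add]
    rw [show -l * (2 * (2 * i + 1) + 1) + 2 * (2 * i + 1) * l + - -l = 0 by ring, zpow_zero]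
    exact one_mem _
  push Not at h6
  obtain ⟨m, e⟩ := Gold.App.mem_zpowers_sq (h.cm_mem hy ht) (h6 t ht)
  refine Or.inr ⟨hy, h5, fun w hw => ?_, h6⟩
  rw [← zpow_neg_one w]
  refine conj_zpow_of (c := ⁅y, t⁆) ?_ (zpowers_le_of_mem (e ▸ mem_zpowers_odd (h.two' h.cS) m) hw)
  rw [hp _ (h.cm_mem hy ht), zpow_neg_one, eq_inv_iff_mul_eq_one, ← zpow_add_one, h4 t ht, h5, h.zz]

theorem lemKL {w n : G} (hw : w ∈ zpowers c) (hn : n * z = z * n) (hS : n * w * n⁻¹ ∈ S)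
    (h1 : n * w * n⁻¹ * (n * w * n⁻¹) ∈ zpowers c) : n * w * n⁻¹ ∈ zpowers c ∨ Out z S c (n * w * n⁻¹) := by
  by_cases h2 : n * w * n⁻¹ * (n * w * n⁻¹) = 1
  · rw [conj_mul, conj_eq_one_iff] at h2
    rcases h.invol ht hw h2 with e | e <;> rw [e]
    · exact Or.inl (by simp)
    · exact Or.inl (by rw [hn, mul_inv_cancel_right]; exact h.zc ht)
  refine (h.lemL ht hS h1 h2).imp_left fun ⟨δ, hδ, e⟩ => h.lemK hw hn hS hδ ?_
  generalize n * w * n⁻¹ = y at e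
  have := mul_mem (inv_mem (zpowers_le_of_mem (mul_mem (mem_zpowers y) (mem_zpowers y)) e)) (mem_zpowers y)
  rwa [show ⁅y, δ⁆⁻¹ * y = δ * y * δ⁻¹ by rw [commutatorElement_def]; group] at this

end Cy

end CfsgLib.StdG.Fk
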