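import Mathlib
import Cfsg.Agent.Lib.StdG.Fk2
import Cfsg.Agent.Lib.Gold.All

/-! Standard subgroups with cyclic centralizer: the Sylow subgroup of `A` (S3148, part 3). -/

set_option autoImplicit false
set_option linter.unusedSectionVars false

namespace CfsgLib.StdG.Fk

open Subgroup Cfsg CfsgLib.Tech
open scoped commutatorElement

universe u

variable {G : Type u} [Group G] [Finite G]

local notation "𝒞[" x "]" => centralizer ({x} : Set G)

theorem mem_sup_two {H : Subgroup G} {u q : G} (hn : u ∈ normalizer (H : Set G)) (hu : u * u ∈ H) :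
    q ∈ H ⊔ zpowers u ↔ q ∈ H ∨ q * u⁻¹ ∈ H := by
  refine ⟨fun hq => ?_, fun hq => hq.elim mem_sup_left fun e => by
    simpa using mul_mem (mem_sup_left e) (mem_sup_right (S := H) (mem_zpowers u))⟩
  obtain ⟨a, ha, _, ⟨k, rfl⟩, rfl⟩ := (Core.mem_sup_of_le_normalizer_left (zpowers_le_of_mem hn)).mp hq
  rcases Int.even_or_odd' k with ⟨j, rfl | rfl⟩
  · exact Or.inl (mul_mem ha (by simpa only [zpow_mul, zpow_two] using zpow_mem hu j))
  · refine Or.inr ?_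
    simpa only [zpow_add_one, ← mul_assoc, mul_inv_cancel_right, zpow_mul, zpow_two] using
      mul_mem ha (zpow_mem hu j)

theorem eq_of_sc {A T Q : Subgroup G} {z : G} (hT : IsSylowIn 2 T A) (hQT : Q ≤ T) (hQ : Gold.SC Q A)
    (hN : Gold.ncl Q A = A) (h1 : ∀ q ∈ Q, q * q = 1 → q = 1 ∨ q = z) : T = Q := by
  have h2 := Gold.App.eq_sylow_of_rank_one Gold.inputs (Core.pPrimeCore_quotient_pPrimeCore 2 A)
    (Abel2.barSyl hT) hQ.bar (Abel2.bar_mono hQT) (by rw [← Gold.bar_ncl hQ.le, hN, Abel2.bar_self])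
    fun E hE h4 => by
      have k : ∀ x ∈ E, x ≠ 1 → ∃ l : A, (l : G) = z ∧ Abel2.pr A l = x := fun x hx x1 => by
        obtain ⟨l, hl, e⟩ := x.2
        have h3 : Abel2.pr A (l * l) = 1 := by
          rw [map_mul, e, ← pow_two]; exact congrArg Subtype.val (hE x hx)
        refine ⟨l, (h1 l hl (Abel2.eq_one_of_mem_opOf hQ.two (mul_mem hl hl)
          (Abel2.pr_eq_one_iff.mp h3))).resolve_left fun e1 => x1 (Subtype.ext ?_), e⟩
        rw [← e, show l = 1 from Subtype.ext e1, map_one]; rfl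
      have : Nat.card E ≤ 2 := by
        refine (Nat.card_le_card_of_injective (fun x : E => x = 1) fun x y e => ?_).trans
          (by rw [Nat.card_eq_fintype_card, Fintype.card_prop])
        by_cases x1 : x = 1
        · exact x1.trans (e.mp x1).symm
        obtain ⟨a, a1, a2⟩ := k x x.2 fun e1 => x1 (Subtype.ext e1)
        obtain ⟨b, b1, b2⟩ := k y y.2 fun e1 => x1 (e.mpr (Subtype.ext e1))
        exact Subtype.ext (Subtype.ext (by rw [← a2, ← b2, show a = b from Subtype.ext (a1.trans b1.symm)]))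
      omega
  refine (eq_of_le_of_card_ge hQT ?_).symm
  rw [← Abel2.card_bar hT.pgroup hT.le, ← Abel2.card_bar hQ.two hQ.le, ← h2, Abel2.coe_barSyl]

/-- conjugate under `C(z)` -/
def Cj (z s y : G) : Prop := ∃ n, n * z = z * n ∧ y = n * s * n⁻¹

theorem Cj.conj {z s y n : G} (h : Cj z s y) (hn : n * z = z * n) : Cj z s (n * y * n⁻¹) := by
  obtain ⟨m, hm, rfl⟩ := h
  exact ⟨n * m, mem_c.mp (mul_mem (mem_c.mpr hn) (mem_c.mpr hm)), by group⟩

theorem Cf.A_le {A : Subgroup G} {z : G} (h : Cf A z) : A ≤ 𝒞[z] := fun a ha => mem_c.mpr (h.zK a ha)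

theorem Sy.sylA {A S : Subgroup G} {z r : G} (h : Sy A z S r) : IsSylowIn 2 (S ⊓ A) A := by
  have := h.syl.inf_of_le_normalizer h.nm
  rwa [inf_eq_right.mpr h.A_le] at this

theorem Sy.zst {A S : Subgroup G} {z r x : G} (h : Sy A z S r) (hx : x ∈ S) (hx' : x ∉ centralizer (A : Set G)) :
    ∃ a ∈ A, a * x * a⁻¹ ∈ S ∧ a * x * a⁻¹ * x⁻¹ ∈ A ∧ a * x * a⁻¹ * x⁻¹ ∉ centralizer (A : Set G) := by
  by_contra hn
  push Not at hn
  exact hx' (zstar_qs h.qs h.syl.pgroup (h.syl.le.trans h.nm) h.sylA hx fun a ha e =>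
    hn a ha e (cm_mem_left ha (h.nm (h.syl.le hx))))

/-- the quaternion group `⟨c, u⟩` -/
structure Qd (A : Subgroup G) (z : G) (S : Subgroup G) (r c t s u : G) : Prop extends Cy A z S r c where
  ht : Dl z S t
  sc : s ∈ zpowers c
  ss : s * s = z
  sK : s ∉ centralizer (A : Set G)
  cA : c ∈ A
  uA : u ∈ A
  out : Out z S c u
  cu : Cj z s u

theorem Cy.exists_qd {A S : Subgroup G} {z r c t : G} (h : Cy A z S r c) (ht : Dl z S t) :
    ∃ s u, Qd A z S r c t s u := by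
  obtain ⟨a, ha, h1, h2, h3⟩ := h.zst ht.1 fun e => (h.uq t e (h.dsq ht) (h.cz ht.1)).elim
    (fun e1 => h.z1 (isConj_one_left.mp (e1 ▸ ht.2.1))) ht.2.2
  have h4 : a * t * a⁻¹ * t⁻¹ ∈ zpowers c := by
    rw [h.dinv ht]
    exact h.mul _ _ ⟨h1, ht.2.1.trans (isConj_iff.mpr ⟨a, rfl⟩), conj_ne (h.zK a ha) ht.2.2⟩ ht
  obtain ⟨x, hx, x1, x2⟩ := exists_sq_mem _ rfl (h.two' (h.le h4)) h3
  have xc := zpowers_le_of_mem h4 hx
  have xA := zpowers_le_of_mem h2 hx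
  obtain ⟨b, hb, k1, -, k3⟩ := h.zst (h.le xc) x1
  have e : b * x * b⁻¹ * (b * x * b⁻¹) = x * x := by rw [conj_mul, x2 b hb, mul_inv_cancel_right]
  have ho := (h.lemKL ht xc (h.zK b hb) k1 (e ▸ mul_mem xc xc)).resolve_left fun e1 => k3 (by
    rcases h.sq_eq ht e1 xc e with e2 | e2 <;> rw [e2]
    · rw [mul_inv_cancel]; exact one_mem _
    · rw [mul_inv_cancel_right]; exact h.zK)
  have uA := mul_mem (mul_mem hb xA) (inv_mem hb)
  obtain ⟨m, e1⟩ := Gold.App.mem_zpowers_sq (h.cm_mem k1 ht) (ho.gen t ht)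
  exact ⟨x, _, h, ht, xc, e ▸ ho.sq, x1, zpowers_le_of_mem (cm_mem_left uA (h.nm (h.syl.le ht.1)))
    (e1 ▸ mem_zpowers_odd (h.two' h.cS) m), uA, ho, b, h.zK b hb, rfl⟩

namespace Qd

variable {A S : Subgroup G} {z r c t s u : G} (h : Qd A z S r c t s u)
include h

theorem mem_Q {q : G} : q ∈ zpowers c ⊔ zpowers u ↔ q ∈ zpowers c ∨ q * u⁻¹ ∈ zpowers c :=
  mem_sup_two (mem_norm_zp (h.nS u h.out.mem)) (h.out.sq ▸ h.zc h.ht)

theorem Q_le : zpowers c ⊔ zpowers u ≤ S ⊓ A :=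
  sup_le (zpowers_le_of_mem ⟨h.cS, h.cA⟩) (zpowers_le_of_mem ⟨h.out.mem, h.uA⟩)

theorem s_inv : s⁻¹ = z * s := by
  rw [inv_eq_iff_mul_eq_one, ← mul_assoc, h.cz (h.le h.sc), mul_assoc, h.ss, h.zz]

theorem not_inv {y : G} (e : y * s * y⁻¹ = s⁻¹) : y * s ≠ s * y := fun e1 => by
  rw [e1, mul_inv_cancel_right, eq_inv_iff_mul_eq_one, h.ss] at e
  exact h.z1 e

theorem cj_sq {y : G} (hy : Cj z s y) : y * y = z := by
  obtain ⟨n, hn, rfl⟩ := hy
  rw [conj_mul, h.ss, hn, mul_inv_cancel_right]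

theorem cj_cases {y : G} (hy : Cj z s y) (hS : y ∈ S) : y ∈ zpowers c ∨ Out z S c y := by
  have := h.cj_sq hy
  obtain ⟨n, hn, rfl⟩ := hy
  exact h.lemKL h.ht h.sc hn hS (this ▸ h.zc h.ht)

theorem cj_of_sq {w : G} (hw : w ∈ zpowers c) (e : w * w = z) : Cj z s w := by
  rcases h.sq_eq h.ht hw h.sc (e.trans h.ss.symm) with e1 | e1 <;> rw [e1]
  · exact ⟨1, by simp, by simp⟩
  · exact ⟨t, h.cz h.ht.1, by rw [h.inv' h.ht h.sc, h.s_inv]⟩

theorem cj_mul {w : G} (hw : w ∈ zpowers c) : Cj z s (w * u) := by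
  have k : ∀ v, Cj z s v → (∀ d ∈ zpowers c, v * d * v⁻¹ = d⁻¹) → ∀ w ∈ zpowers (c * c), Cj z s (w * v) :=
    fun v hv h1 w hw => by
      obtain ⟨d, hd, rfl⟩ := mem_sq.mp hw
      convert hv.conj (h.cz (h.le hd)) using 1
      calc d * d * v = d * (v * d⁻¹ * v⁻¹) * v := by rw [h1 _ (inv_mem hd), inv_inv]
        _ = _ := by group
  by_cases h1 : w ∈ zpowers (c * c)
  · exact k u h.cu h.out.inv w h1
  · convert k _ (h.cu.conj (h.cz h.ht.1)) (fun d hd => ?_) _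
      (mul_mem_sq hw (h.cm_mem h.out.mem h.ht) h1 (h.out.gen t h.ht)) using 1
    · rw [commutatorElement_def]; group
    · have e := h.inv' h.ht hd
      have e1 : t⁻¹ * d * t = d⁻¹ := by rw [← e, h.dinv h.ht]
      rw [show t * u * t⁻¹ * d * (t * u * t⁻¹)⁻¹ = t * (u * (t⁻¹ * d * t) * u⁻¹) * t⁻¹ by group,
        e1, h.out.inv _ (inv_mem hd), inv_inv, e]

theorem cj_comm {a b : G} (ha : Cj z s a) (hb : Cj z s b) (e : a * b = b * a) : b = a ∨ b = z * a := by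
  obtain ⟨n, hn, rfl⟩ := ha
  have hn' : n⁻¹ * z = z * n⁻¹ := mem_c.mp (inv_mem (mem_c.mpr hn))
  have h1 := hb.conj hn'
  have h2 : n⁻¹ * b * n⁻¹⁻¹ * s = s * (n⁻¹ * b * n⁻¹⁻¹) := by
    calc _ = n⁻¹ * (b * (n * s * n⁻¹)) * n := by group
      _ = _ := by rw [← e]; group
  obtain ⟨g, hg, h3⟩ := (h.syl.of_le (K := 𝒞[z] ⊓ normalizer ((zpowers s : Subgroup G) : Set G))
    (le_inf h.syl.le fun x hx => mem_norm_zp (h.nW hx h.sc)) inf_le_left).exists_conj_mem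
    (x := n⁻¹ * b * n⁻¹⁻¹) (mem_inf.mpr ⟨mem_c.mpr (by rw [← h.cj_sq h1]; exact (mul_assoc _ _ _).symm), mem_norm_zp (by
      rw [h2, mul_inv_cancel_right]; exact mem_zpowers s)⟩)
    (isPGroup_zpowers_of_pow (k := 2) (by
      rw [show 2 ^ 2 = 2 * 2 from rfl, pow_mul, pow_two (n⁻¹ * b * n⁻¹⁻¹), h.cj_sq h1, pow_two, h.zz]))
  have hg1 := mem_c.mp (mem_inf.mp hg).1
  have h4 := zpowers_le_of_mem h.sc (conj_mem_of_mem_normalizer hg.2 (mem_zpowers s))
  have h5 := h1.conj hg1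
  have h6 := h.cj_sq (y := g * s * g⁻¹) ⟨g, hg1, rfl⟩
  have h7 := (h.cj_cases h5 h3).resolve_right fun ho => by
    have := ho.inv _ h4
    rw [conj_mul, h2, ← conj_mul, mul_inv_cancel_right, eq_inv_iff_mul_eq_one, h6] at this
    exact h.z1 this
  rcases h.sq_eq h.ht h7 h4 ((h.cj_sq h5).trans h6.symm) with e1 | e1
  · left
    calc b = n * g⁻¹ * (g * (n⁻¹ * b * n⁻¹⁻¹) * g⁻¹) * g * n⁻¹ := by group
      _ = _ := by rw [e1]; group
  · right
    calc b = n * g⁻¹ * (g * (n⁻¹ * b * n⁻¹⁻¹) * g⁻¹) * g * n⁻¹ := by group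
      _ = n * (g⁻¹ * (z * g)) * s * n⁻¹ := by rw [e1]; group
      _ = _ := by rw [← hg1, inv_mul_cancel_left, hn]; group

theorem cj_mem {y : G} (hy : Cj z s y) (hS : y ∈ S) : y ∈ zpowers c ⊔ zpowers u := by
  rcases h.cj_cases hy hS with h1 | ho
  · exact mem_sup_left h1
  have hφ := h.cm_mem h.out.mem h.ht
  obtain ⟨d, hd, e⟩ := mem_sq.mp (mul_mem_sq (h.cm_mem hS h.ht) (inv_mem hφ) (ho.gen t h.ht)
    fun e => h.out.gen t h.ht (inv_mem_iff.mp e))
  have h1 := h.cj_mul hd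
  have hdS := mul_mem (h.le hd) h.out.mem
  have h2 : (d * u)⁻¹ * y * t = t * ((d * u)⁻¹ * y) := by
    have : ⁅d * u, t⁆ = ⁅y, t⁆ := by
      rw [show ⁅d * u, t⁆ = d * ⁅u, t⁆ * (t * d⁻¹ * t⁻¹) by simp only [commutatorElement_def]; group,
        h.inv' h.ht (inv_mem hd), inv_inv, mul_assoc, zp_comm hφ hd, ← mul_assoc, e, inv_mul_cancel_right]
    calc _ = (d * u)⁻¹ * ⁅y, t⁆ * t * y := by rw [commutatorElement_def]; group
      _ = _ := by rw [← this, commutatorElement_def]; group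
  obtain ⟨v, rfl⟩ : ∃ v, y = d * u * v := ⟨(d * u)⁻¹ * y, by group⟩
  rw [inv_mul_cancel_left] at h2
  have vS := (mul_mem_cancel_left hdS).mp hS
  have h3 : (d * u)⁻¹ * v * (d * u) = v⁻¹ := by
    rw [eq_inv_iff_mul_eq_one]
    calc _ = (d * u * (d * u))⁻¹ * (d * u * v * (d * u * v)) := by group
      _ = 1 := by rw [h.cj_sq h1, ho.sq, inv_mul_cancel]
  refine mul_mem (mul_mem (mem_sup_left hd) (mem_sup_right (mem_zpowers u))) (mem_sup_left ?_)
  refine zpowers_le_of_mem (h.zc h.ht) ?_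
  by_contra hn
  obtain ⟨v₁, k1, k2, k3⟩ := exists_sq_mem _ rfl (h.two' vS) hn
  have k4 : v₁ * v₁ = 1 := (mem_two h.zz k3).resolve_right (h.nsq h.ht.2.1 h.ht.2.2 (by
    obtain ⟨k, rfl⟩ := k1
    exact (show Commute v t from h2).zpow_left k))
  have k5 : Cj z s (d * u * v₁) := by
    obtain ⟨d', hd', e1 | e1⟩ := dih h3 k1 <;> rw [e1]
    exacts [h1.conj (h.cz (zpowers_le_of_mem vS hd')), hy.conj (h.cz (zpowers_le_of_mem vS hd'))]
  have k6 := conj_zpow_of (y := (d * u)⁻¹) (k := -1) (by rw [inv_inv, h3, zpow_neg_one]) k1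
  rw [inv_inv, zpow_neg_one, inv_eq_of_mul_eq_one_right k4, mul_assoc, inv_mul_eq_iff_eq_mul] at k6
  rcases h.cj_comm h1 k5 (by rw [mul_assoc _ v₁, k6]) with e1 | e1
  · exact k2 (mul_eq_left.mp e1 ▸ one_mem _)
  · rw [← h.cz hdS] at e1
    exact k2 (mul_left_cancel e1 ▸ mem_zpowers z)

theorem sq_mem {y : G} (hy : y ∈ S) (e : y * y ∈ zpowers c ⊔ zpowers u) : y * y ∈ zpowers c := by
  refine (h.mem_Q.mp e).resolve_right fun e1 => h.not_inv (y := y * y) ?_ ?_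
  · calc _ = y * y * u⁻¹ * (u * s * u⁻¹) * (y * y * u⁻¹)⁻¹ := by group
      _ = _ := by rw [h.out.inv s h.sc, zp_comm e1 (inv_mem h.sc), mul_inv_cancel_right]
  · have h1 := h.nW hy h.sc
    rw [← mul_inv_eq_iff_eq_mul, show y * y * s * (y * y)⁻¹ = y * (y * s * y⁻¹) * y⁻¹ by group]
    rcases h.sq_eq h.ht (zpowers_le_of_mem h.sc h1) h.sc (by
      rw [conj_mul, h.ss, h.cz hy, mul_inv_cancel_right]) with e2 | e2
    · rw [e2, e2]
    · rw [e2, ← conj_mul, e2, h.cz hy, mul_inv_cancel_right, ← mul_assoc, h.zz, one_mul]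

theorem closed {q n : G} (hq : q ∈ zpowers c ⊔ zpowers u) (hn : n * z = z * n) (hS : n * q * n⁻¹ ∈ S) :
    n * q * n⁻¹ ∈ zpowers c ⊔ zpowers u := by
  rcases h.mem_Q.mp hq with h1 | h1
  swap
  · exact h.cj_mem (by simpa using (h.cj_mul h1).conj hn) hS
  clear hq
  induction hm : orderOf q using Nat.strong_induction_on generalizing q with | _ m ih => ?_
  by_cases q1 : q = 1
  · simp [q1]
  have h2 := ih _ (hm ▸ orderOf_sq_lt (h.two' (h.le h1)) q1) (q := q * q)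
    (by rw [← conj_mul]; exact mul_mem hS hS) (mul_mem h1 h1) rfl
  rw [← conj_mul] at h2
  rcases h.lemKL h.ht h1 hn hS (h.sq_mem hS h2) with h3 | h3
  · exact mem_sup_left h3
  · have := h3.sq
    rw [conj_mul, mul_inv_eq_iff_eq_mul, ← hn, mul_right_inj] at this
    exact h.cj_mem ((h.cj_of_sq h1 this).conj hn) hS

theorem invQ {q : G} (hq : q ∈ zpowers c ⊔ zpowers u) (e : q * q = 1) : q = 1 ∨ q = z :=
  (h.mem_Q.mp hq).elim (fun h1 => h.invol h.ht h1 e) fun h1 => by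
    have := h.cj_sq (h.cj_mul h1)
    rw [inv_mul_cancel_right, e] at this
    exact absurd this.symm h.z1

theorem T_eq : S ⊓ A = zpowers c ⊔ zpowers u := by
  have hle := h.Q_le.trans inf_le_right
  refine eq_of_sc h.sylA h.Q_le (Gold.sc_of_isSylowIn h.sylA h.Q_le fun q hq a ha e =>
    h.closed hq (h.zK a ha) e.1) ?_ fun _ => h.invQ
  exact (Comp.qs_sub_normal h.qs (Gold.ncl_le hle) (Gold.le_normalizer_ncl _ _)).resolve_right
    fun e => h.sK (e (Gold.le_ncl _ _ (mem_sup_left h.sc)))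

end Qd

end CfsgLib.StdG.Fk
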