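import Mathlib
import Cfsg.Agent.Lib.StdG.Fk3
import Cfsg.Agent.Lib.Transfer.Thompson
import Cfsg.Agent.Lib.PD.ToolsA
import Cfsg.Agent.Lib.TwoGrp.QD

/-! Standard subgroups with cyclic centralizer: the semidihedral group (S3148, part 4). -/

set_option autoImplicit false
set_option linter.unusedSectionVars false

namespace CfsgLib.StdG.Fk

open Subgroup Cfsg CfsgLib.Tech
open scoped commutatorElement

universe u

variable {G : Type u} [Group G] [Finite G]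

local notation "𝒞[" x "]" => centralizer ({x} : Set G)

theorem transfer_ab {S D L : Subgroup G} (hL : ∀ M : Subgroup L, M.index ≠ 2) (hS : IsSylowIn 2 (S ⊓ L) L)
    (h2 : IsPGroup 2 S) (hn : S ≤ normalizer (D : Set G)) (hc : ∀ a ∈ S, ∀ b ∈ S, ⁅a, b⁆ ∈ D) {y : G}
    (hy : y ∈ S ⊓ L) (yy : y * y = 1) (hk : ∀ g, g * y * g⁻¹ ∈ S → g * y * g⁻¹ * y⁻¹ ∈ D) : y ∈ D := by
  by_contra hD
  have : (D.subgroupOf S).Normal := normal_subgroupOf_of_le_normalizer hn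
  let _ : CommGroup (S ⧸ D.subgroupOf S) := { QuotientGroup.Quotient.group _ with
    mul_comm := fun a b => by
      obtain ⟨a, rfl⟩ := QuotientGroup.mk'_surjective _ a
      obtain ⟨b, rfl⟩ := QuotientGroup.mk'_surjective _ b
      rw [← commutatorElement_eq_one_iff_mul_comm, ← map_commutatorElement]
      exact (QuotientGroup.eq_one_iff _).mpr (hc a a.2 b b.2) }
  let ι : (S ⊓ L).subgroupOf L →* S := (L.subtype.comp (Subgroup.subtype _)).codRestrict S fun x => x.2.1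
  let ϕ := (QuotientGroup.mk' (D.subgroupOf S)).comp ι
  set ε := ϕ ⟨⟨y, hy.2⟩, hy⟩ with hε
  have hε2 : orderOf ε = 2 := orderOf_eq_prime (by
    rw [← map_pow, show (⟨⟨y, hy.2⟩, hy⟩ : (S ⊓ L).subgroupOf L) ^ 2 = 1 from
      Subtype.ext (Subtype.ext ((pow_two y).trans yy)), map_one])
    fun e => hD ((QuotientGroup.eq_one_iff (N := D.subgroupOf S) _).mp e)
  have key := Transfer.transfer_mul_inv_pow_mem_of_prime ϕ ⊥ Nat.prime_two ⟨y, hy.2⟩
    (orderOf_eq_prime (Subtype.ext ((pow_two y).trans yy)) fun e => hD (by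
      rw [show y = 1 from congrArg Subtype.val e]; exact one_mem D)) ε
    (by rw [← hε2, pow_orderOf_eq_one]; exact one_mem _) fun g hg => by
      rw [mem_bot, hε, ← map_inv, ← map_mul]
      have := hk (g : G)⁻¹ (by rw [inv_inv]; exact hg.1)
      rw [inv_inv] at this
      exact (QuotientGroup.eq_one_iff (N := D.subgroupOf S) _).mpr this
  rw [mem_bot, PD.ToolsA.eq_one_of_no_index_two hL (h2.to_quotient _), one_mul, inv_eq_one,
    ← orderOf_dvd_iff_pow_eq_one, hε2] at key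
  exact hS.not_dvd key

namespace Qd

variable {A S : Subgroup G} {z r c t s u : G} (h : Qd A z S r c t s u)
include h

theorem xS : u * t ∈ S := mul_mem h.out.mem h.ht.1

theorem xx : u * t * (u * t) = ⁅u, t⁆ * z := by
  rw [commutatorElement_def, mul_assoc _ _ z, h.cz (inv_mem h.ht.1), ← h.out.sq, h.dinv h.ht]; group

theorem z_sq : z ∈ zpowers (c * c) := mem_sq.mpr ⟨s, h.sc, h.ss⟩

theorem xx_mem : u * t * (u * t) ∈ zpowers c := h.xx ▸ mul_mem (h.cm_mem h.out.mem h.ht) (h.zc h.ht)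

theorem xx_not : u * t * (u * t) ∉ zpowers (c * c) := fun e =>
  h.out.gen t h.ht ((mul_mem_cancel_right h.z_sq).mp (h.xx ▸ e))

theorem c_le : zpowers c ≤ zpowers (u * t * (u * t)) := by
  obtain ⟨k, e⟩ := Gold.App.mem_zpowers_sq h.xx_mem h.xx_not
  exact zpowers_le_of_mem (e ▸ mem_zpowers_odd (h.two' h.cS) k)

theorem c_le' : zpowers c ≤ zpowers (u * t) :=
  h.c_le.trans (zpowers_le_of_mem (mul_mem (mem_zpowers _) (mem_zpowers _)))

theorem tx : t * (u * t) * t⁻¹ = (u * t)⁻¹ * z := by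
  rw [← h.out.sq, mul_inv_rev, h.dinv h.ht, mul_assoc, mul_assoc u, h.dsq h.ht]; group

theorem mem_D {y : G} : y ∈ zpowers (u * t) ⊔ zpowers t ↔ y ∈ zpowers (u * t) ∨ y * t⁻¹ ∈ zpowers (u * t) :=
  mem_sup_two (mem_norm_zp (h.tx ▸ mul_mem (inv_mem (mem_zpowers _)) (h.c_le' (h.zc h.ht))))
    (h.dsq h.ht ▸ one_mem _)

theorem mem_x {y : G} (hy : y ∈ zpowers (u * t)) : y ∈ zpowers c ∨ y * (u * t)⁻¹ ∈ zpowers c := by
  by_cases h1 : y ∈ zpowers (u * t * (u * t))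
  · exact Or.inl (zpowers_le_of_mem h.xx_mem h1)
  · obtain ⟨k, rfl⟩ := Gold.App.mem_zpowers_sq hy h1
    refine Or.inr ?_
    rw [zpow_add_one, mul_inv_cancel_right, zpow_mul, zpow_two]
    exact zpow_mem h.xx_mem k

theorem D_le : zpowers (u * t) ⊔ zpowers t ≤ S := sup_le (zpowers_le_of_mem h.xS) (zpowers_le_of_mem h.ht.1)

theorem Q_le_D : zpowers c ⊔ zpowers u ≤ zpowers (u * t) ⊔ zpowers t :=
  sup_le (h.c_le'.trans le_sup_left) (zpowers_le_of_mem (by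
    simpa using mul_mem (mem_sup_left (mem_zpowers (u * t))) (mem_sup_right (S := zpowers (u * t))
      (inv_mem (mem_zpowers t)))))

theorem dl_mem {δ : G} (hδ : Dl z S δ) : δ ∈ zpowers (u * t) ⊔ zpowers t :=
  h.mem_D.mpr (Or.inr (h.c_le' (by rw [h.dinv h.ht]; exact h.mul _ _ hδ h.ht)))

theorem invD {y : G} (hy : y ∈ zpowers (u * t) ⊔ zpowers t) (e : y * y = 1) : y = 1 ∨ IsConj z y := by
  rcases h.mem_D.mp hy with h1 | h1 <;> rcases h.mem_x h1 with h2 | h2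
  · exact (h.invol h.ht h2 e).imp_right fun e1 : y = z => e1 ▸ IsConj.refl _
  · refine absurd (mem_sq.mpr ⟨_, inv_mem h2, ?_⟩) h.xx_not
    have := zp_comm h1 (mem_zpowers (u * t))
    calc _ = u * t * (y⁻¹ * (u * t) * y⁻¹) := by group
      _ = u * t * (y⁻¹ * ((u * t) * y) * (y * y)⁻¹) := by group
      _ = _ := by rw [← this, e]; group
  · simpa using Or.inr (h.dl _ h2 t h.ht).2.1
  · have := h.cj_sq (h.cj_mul h2)
    rw [show y * t⁻¹ * (u * t)⁻¹ * u = y * (t * t)⁻¹ by group, h.dsq h.ht, inv_one, mul_one, e] at this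
    exact absurd this.symm h.z1

theorem normD : S ≤ normalizer ((zpowers (u * t) ⊔ zpowers t : Subgroup G) : Set G) := fun y hy => by
  have h1 := h.dl_mem (h.conj h.ht hy)
  refine mem_normalizer_of_cj_le ?_
  rw [cj_sup, cj_zpowers, cj_zpowers, ← conj_mul]
  exact sup_le (zpowers_le_of_mem (mul_mem (h.Q_le_D (h.closed (mem_sup_right (mem_zpowers u)) (h.cz hy)
    (mul_mem (mul_mem hy h.out.mem) (inv_mem hy)))) h1)) (zpowers_le_of_mem h1)

theorem dec {y : G} (hy : y ∈ S) :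
    ∃ σ ∈ zpowers (u * t) ⊔ zpowers t, ∃ v ∈ S, y = σ * v ∧ v * t = t * v ∧ v * s = s * v := by
  obtain ⟨q, hq, e⟩ : ∃ q ∈ zpowers c ⊔ zpowers u, y * t * y⁻¹ = q * t * q⁻¹ := by
    have h1 := h.cm_mem hy h.ht
    have k : ∀ d ∈ zpowers c, ∀ δ, Dl z S δ → d * δ * d⁻¹ = d * d * δ := fun d hd δ hδ => by
      calc d * δ * d⁻¹ = d * (δ * d⁻¹ * δ⁻¹) * δ := by group
        _ = _ := by rw [h.inv' hδ (inv_mem hd), inv_inv]
    by_cases h2 : ⁅y, t⁆ ∈ zpowers (c * c)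
    · obtain ⟨d, hd, e⟩ := mem_sq.mp h2
      exact ⟨d, mem_sup_left hd, by rw [k d hd t h.ht, e, conj_eq_cm]⟩
    · obtain ⟨d, hd, e⟩ := mem_sq.mp (mul_mem_sq h1 (inv_mem (h.cm_mem h.out.mem h.ht)) h2
        fun e => h.out.gen t h.ht (inv_mem_iff.mp e))
      refine ⟨d * u, mul_mem (mem_sup_left hd) (mem_sup_right (mem_zpowers u)), ?_⟩
      rw [show d * u * t * (d * u)⁻¹ = d * (u * t * u⁻¹) * d⁻¹ by group, k d hd _ (h.conj h.ht h.out.mem), e,
        conj_eq_cm, conj_eq_cm u]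
      group
  have h1 : q⁻¹ * y ∈ S := mul_mem (inv_mem (h.Q_le hq).1) hy
  have h2 : q⁻¹ * y * t = t * (q⁻¹ * y) := by
    calc _ = q⁻¹ * (y * t * y⁻¹) * y := by group
      _ = _ := by rw [e]; group
  rcases h.sq_eq h.ht (zpowers_le_of_mem h.sc (h.nW h1 h.sc)) h.sc (by
    rw [conj_mul, h.ss, h.cz h1, mul_inv_cancel_right]) with e2 | e2
  · exact ⟨q, h.Q_le_D hq, _, h1, by group, h2, mul_inv_eq_iff_eq_mul.mp e2⟩
  · refine ⟨q * t⁻¹, mul_mem (h.Q_le_D hq) (inv_mem (mem_sup_right (mem_zpowers t))), t * (q⁻¹ * y),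
      mul_mem h.ht.1 h1, by group, by rw [mul_assoc, h2], ?_⟩
    rw [← mul_inv_eq_iff_eq_mul, show t * (q⁻¹ * y) * s * (t * (q⁻¹ * y))⁻¹ =
      t * (q⁻¹ * y * s * (q⁻¹ * y)⁻¹) * t⁻¹ by group, e2, ← h.s_inv, h.inv' h.ht (inv_mem h.sc), inv_inv]

theorem cm_x {v : G} (hv : v ∈ S) (e : v * t = t * v) : ⁅v, u * t⁆ ∈ zpowers c := by
  have h1 := h.closed (mem_sup_right (mem_zpowers u)) (h.cz hv) (mul_mem (mul_mem hv h.out.mem) (inv_mem hv))
  have h2 := (h.mem_Q.mp h1).resolve_left fun e1 => h.not_inv (h.out.inv s h.sc) (zp_comm (by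
    simpa [mul_assoc] using zpowers_le_of_mem e1 (h.nW (inv_mem hv) e1)) h.sc)
  convert h2 using 1
  calc ⁅v, u * t⁆ = v * u * (t * v⁻¹ * t⁻¹) * u⁻¹ := by rw [commutatorElement_def]; group
    _ = _ := by rw [(show Commute v t from e).inv_left.symm.eq, mul_inv_cancel_right]

theorem exists_invol {K : Subgroup G} {v : G} (hv : v ∈ S) (e : v * t = t * v) (hK : v ∉ K)
    (h1 : ∀ w ∈ zpowers v, w ∈ K → w ∈ zpowers z) : ∃ w ∈ zpowers v, w ∉ K ∧ w * w = 1 := by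
  obtain ⟨w, k1, k2, k3⟩ := exists_sq_mem _ rfl (h.two' hv) hK
  refine ⟨w, k1, k2, (mem_two h.zz (h1 _ (mul_mem k1 k1) k3)).resolve_right (h.nsq h.ht.2.1 h.ht.2.2 ?_)⟩
  obtain ⟨k, rfl⟩ := k1
  exact (show Commute v t from e).zpow_left k

theorem cen {v : G} (hv : v ∈ S) (e : v * t = t * v) (e1 : v * (u * t) = u * t * v) : v ∈ zpowers z := by
  by_contra hn
  obtain ⟨w, k1, k2, k3⟩ := h.exists_invol hv e hn fun _ _ h => h
  have wS := zpowers_le_of_mem hv k1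
  have h1 : zpowers (u * t) ⊔ zpowers t ≤ 𝒞[w] := by
    obtain ⟨k, rfl⟩ := k1
    exact sup_le (zpowers_le_of_mem (mem_c.mpr ((show Commute v _ from e1).zpow_left k).symm))
      (zpowers_le_of_mem (mem_c.mpr ((show Commute v _ from e).zpow_left k).symm))
  refine k2 ((h.uq w ?_ k3 (h.cz wS)).elim (fun e => e ▸ one_mem _) fun e => e ▸ mem_zpowers _)
  by_contra hK
  obtain ⟨a, ha, h2, h3, h4⟩ := h.zst wS hK
  have h5 : a * w * a⁻¹ * w⁻¹ ∈ zpowers c ⊔ zpowers u := h.T_eq ▸ mem_inf.mpr ⟨mul_mem h2 (inv_mem wS), h3⟩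
  have h6 := mem_c.mp (h1 (h.Q_le_D h5))
  rcases h.invQ h5 (by
    calc _ = a * w * a⁻¹ * w⁻¹ * (a * w * a⁻¹ * w⁻¹ * w) * w⁻¹ := by group
      _ = a * w * a⁻¹ * (a * w * a⁻¹) * w⁻¹ * w⁻¹ := by rw [h6]; group
      _ = _ := by rw [conj_mul, k3, mul_assoc, ← mul_inv_rev, k3]; group) with e2 | e2
  · exact h4 (e2 ▸ one_mem _)
  · exact h4 (e2 ▸ h.zK)

theorem memD_z {v : G} (hv : v ∈ zpowers (u * t) ⊔ zpowers t) (e : v * t = t * v) (e1 : v * s = s * v) :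
    v ∈ zpowers z := by
  refine h.cen (h.D_le hv) e (zp_comm ((h.mem_D.mp hv).resolve_right fun h1 => ?_) (mem_zpowers _))
  refine h.not_inv (h.inv' h.ht h.sc) ?_
  calc t * s = (v * t⁻¹)⁻¹ * (v * s) := by group
    _ = (v * t⁻¹)⁻¹ * (s * (v * t⁻¹)) * t := by rw [e1]; group
    _ = _ := by rw [zp_comm (h.c_le' h.sc) h1]; group

theorem invU {v : G} (hv : v ∈ S) (e : v * t = t * v) (e1 : v * s = s * v) (e2 : v * v ∈ zpowers z)
    (h1 : v ∉ zpowers z) : ⁅v, u * t⁆ = z := by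
  have e3 := (mem_two h.zz e2).resolve_right (h.nsq h.ht.2.1 h.ht.2.2 e)
  have h2 := h.cm_x hv e
  have h3 : v * ⁅v, u * t⁆ * v⁻¹ = ⁅v, u * t⁆ ^ (-1 : ℤ) := by
    rw [zpow_neg_one, eq_inv_iff_mul_eq_one, ← cm_mul_left, e3, commutatorElement_one_left]
  refine (mem_two h.zz ?_).resolve_left fun e4 => h1 (h.cen hv e (comm_iff.mp e4))
  by_contra hn
  obtain ⟨w, k1, k2, k3⟩ := exists_sq_mem _ rfl (h.two' (h.le h2)) hn
  have k4 := zpowers_le_of_mem h2 k1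
  have k5 := (mem_two h.zz k3).resolve_left fun e4 =>
    k2 ((h.invol h.ht k4 e4).elim (fun e => e ▸ one_mem _) fun e => e ▸ mem_zpowers _)
  have k6 := conj_zpow_of h3 k1
  rw [zpow_neg_one, eq_inv_iff_mul_eq_one, conj_of_comm, k5] at k6
  · exact h.z1 k6
  rcases h.sq_eq h.ht k4 h.sc (k5.trans h.ss.symm) with e4 | e4 <;> rw [e4]
  · exact e1
  · rw [← mul_assoc, h.cz hv, mul_assoc, e1, mul_assoc]

theorem uniq {a b : G} (ha : a ∈ S) (hb : b ∈ S) (a1 : a ∉ zpowers (u * t) ⊔ zpowers t)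
    (b1 : b ∉ zpowers (u * t) ⊔ zpowers t) (a2 : a * a = 1) (b2 : b * b = 1) :
    a * b⁻¹ ∈ zpowers (u * t) ⊔ zpowers t := by
  have hz : zpowers z ≤ zpowers (u * t) ⊔ zpowers t := zpowers_le_of_mem (mem_sup_left (h.c_le' (h.zc h.ht)))
  have k : ∀ σ ∈ zpowers (u * t) ⊔ zpowers t, ∀ v ∈ S, v * t = t * v → v * s = s * v →
      σ * v ∉ zpowers (u * t) ⊔ zpowers t → σ * v * (σ * v) = 1 → ⁅v, u * t⁆ = z :=
    fun σ hσ v hv e e1 h1 h2 => h.invU hv e e1 (h.memD_z (by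
      have := mul_mem (conj_mem_of_mem_normalizer (h.normD hv) (inv_mem hσ)) (inv_mem hσ)
      rwa [show v * σ⁻¹ * v⁻¹ * σ⁻¹ = v * v * (σ * v * (σ * v))⁻¹ by group, h2, inv_one, mul_one] at this)
      ((show Commute v t from e).mul_left e) ((show Commute v s from e1).mul_left e1))
      fun h3 => h1 (mul_mem hσ (hz h3))
  obtain ⟨σ, hσ, v, hv, rfl, e, e1⟩ := h.dec ha
  obtain ⟨τ, hτ, w, hw, rfl, e2, e3⟩ := h.dec hb
  have h1 := h.cen (mul_mem (inv_mem hw) hv) ((show Commute w t from e2).inv_left.mul_left e) (by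
    calc w⁻¹ * v * (u * t) = w⁻¹ * ⁅v, u * t⁆ * (u * t) * v := by rw [commutatorElement_def]; group
      _ = _ := by rw [k σ hσ v hv e e1 a1 a2, ← k τ hτ w hw e2 e3 b1 b2, commutatorElement_def]; group)
  have := mul_mem (mul_mem hσ (conj_mem_of_mem_normalizer (h.normD hw) (hz h1))) (inv_mem hτ)
  convert this using 1; group

theorem commD {a b : G} (ha : a ∈ S) (hb : b ∈ S) : ⁅a, b⁆ ∈ zpowers (u * t) ⊔ zpowers t := by
  obtain ⟨σ, hσ, v, hv, rfl, e, -⟩ := h.dec ha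
  obtain ⟨τ, hτ, w, hw, rfl, e2, -⟩ := h.dec hb
  have k : ∀ v ∈ S, v * t = t * v → ∃ i : ℤ, v * (u * t) * v⁻¹ = (u * t) ^ i := fun v hv e => by
    obtain ⟨i, hi⟩ := mul_mem (h.c_le' (h.cm_x hv e)) (mem_zpowers _)
    exact ⟨i, by rw [conj_eq_cm, ← hi]⟩
  obtain ⟨i, hi⟩ := k v hv e
  obtain ⟨j, hj⟩ := k w hw e2
  have h1 := h.cen (v := (w * v)⁻¹ * (v * w)) (mul_mem (inv_mem (mul_mem hw hv)) (mul_mem hv hw))
    (((show Commute w t from e2).mul_left e).inv_left.mul_left ((show Commute v t from e).mul_left e2)) (by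
      have : v * w * (u * t) * (v * w)⁻¹ = w * v * (u * t) * (w * v)⁻¹ := by
        rw [show v * w * (u * t) * (v * w)⁻¹ = v * (w * (u * t) * w⁻¹) * v⁻¹ by group,
          show w * v * (u * t) * (w * v)⁻¹ = w * (v * (u * t) * v⁻¹) * w⁻¹ by group, hi, hj, ← conj_zpow,
          ← conj_zpow, hi, hj, ← zpow_mul, ← zpow_mul, mul_comm]
      calc _ = (w * v)⁻¹ * (v * w * (u * t) * (v * w)⁻¹) * (v * w) := by group
        _ = _ := by rw [this]; group)
  have h2 := conj_mem_of_mem_normalizer (h.normD (mul_mem hw hv))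
    (zpowers_le_of_mem (mem_sup_left (h.c_le' (h.zc h.ht))) h1)
  have := mul_mem (mul_mem (mul_mem (mul_mem hσ (conj_mem_of_mem_normalizer (h.normD hv) hτ)) h2)
    (conj_mem_of_mem_normalizer (h.normD hw) (inv_mem hσ))) (inv_mem hτ)
  convert this using 1
  rw [commutatorElement_def]; group

theorem sylG : IsSylowIn 2 S ⊤ := isSylowIn_of_isSylowIn_normalizer le_top
  (h.syl.of_le (le_inf le_top le_normalizer) fun g hg => mem_c.mpr (by
    rw [← mul_inv_eq_iff_eq_mul]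
    by_contra hn
    refine h.not_inv (h.inv' ⟨conj_mem_of_mem_normalizer hg.2 h.zS, isConj_iff.mpr ⟨g, rfl⟩, hn⟩ h.sc) ?_
    calc g * z * g⁻¹ * s = g * (z * (g⁻¹ * s * g)) * g⁻¹ := by group
      _ = _ := by rw [← h.cz (conj_mem_of_mem_normalizer' hg.2 (h.le h.sc))]; group))

theorem inf_eq {L : Subgroup G} [L.Normal] (hL : ∀ M : Subgroup L, M.index ≠ 2) (hA : A ≤ L) :
    S ⊓ L = zpowers (u * t) ⊔ zpowers t := by
  have htL : t ∈ L := by
    obtain ⟨g, e⟩ := isConj_iff.mp h.ht.2.1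
    exact e ▸ ‹L.Normal›.conj_mem z (hA (h.Q_le (mem_sup_left (h.zc h.ht))).2) g
  have hD : zpowers (u * t) ⊔ zpowers t ≤ L :=
    sup_le (zpowers_le_of_mem (mul_mem (hA h.uA) htL)) (zpowers_le_of_mem htL)
  refine le_antisymm (fun y hy => ?_) (le_inf h.D_le hD)
  obtain ⟨σ, hσ, v, hv, rfl, e, e1⟩ := h.dec hy.1
  refine mul_mem hσ ?_
  by_contra hn
  obtain ⟨w, k1, k2, k3⟩ := h.exists_invol hv e hn fun w hw h1 => by
    obtain ⟨k, rfl⟩ := hw
    exact h.memD_z h1 ((show Commute v t from e).zpow_left k) ((show Commute v s from e1).zpow_left k)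
  have wS := zpowers_le_of_mem hv k1
  have hS := h.sylG.inf_of_le_normalizer (N := L) le_normalizer_of_normal
  rw [top_inf_eq] at hS
  have k4 : ∀ g, g * w * g⁻¹ * (g * w * g⁻¹) = 1 := fun g => by rw [conj_mul, k3, mul_one, mul_inv_cancel]
  refine k2 (transfer_ab hL hS h.syl.pgroup h.normD (fun _ ha _ hb => h.commD ha hb)
    ⟨wS, zpowers_le_of_mem ((mul_mem_cancel_left (hD hσ)).mp hy.2) k1⟩ k3 fun g hg =>
      h.uniq hg wS (fun h1 => k2 ?_) k2 (k4 g) k3)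
  rcases h.invD h1 (k4 g) with e2 | e2
  · rw [conj_eq_one_iff.mp e2]; exact one_mem _
  by_cases e3 : w = z
  · exact e3 ▸ mem_sup_left (h.c_le' (h.zc h.ht))
  · exact h.dl_mem ⟨wS, e2.trans (isConj_iff.mpr ⟨g⁻¹, by group⟩), e3⟩

theorem isQD : ∃ k, TwoGrp.IsQD (zpowers (u * t) ⊔ zpowers t) k (u * t) t := by
  obtain ⟨n, hn⟩ := isPGroup_zpowers_iff.mp (h.two' h.xS)
  obtain ⟨m, rfl⟩ : ∃ m, n = m + 3 := ⟨n - 3, by
    by_contra h1
    obtain ⟨j, hj⟩ := h.c_le h.sc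
    have h2 : (u * t) ^ 4 = 1 := orderOf_dvd_iff_pow_eq_one.mp (hn ▸ pow_dvd_pow 2 (show n ≤ 2 by omega))
    refine h.z1 ?_
    rw [← h.ss, ← hj, ← (Commute.refl _).mul_zpow, show u * t * (u * t) * (u * t * (u * t)) = (u * t) ^ 4 by
      simp only [pow_succ, pow_zero, one_mul, mul_assoc], h2, one_zpow]⟩
  have ho : orderOf (u * t) = 8 * 2 ^ m := by rw [hn]; ring
  have h1 : (u * t) ^ (4 * 2 ^ m) = z := (h.invol h.ht (by
    rw [show 4 * 2 ^ m = 2 * (2 * 2 ^ m) by ring, pow_mul, pow_two]; exact pow_mem h.xx_mem _) (by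
    rw [← pow_add, ← orderOf_dvd_iff_pow_eq_one, ho]; exact ⟨1, by ring⟩)).resolve_left
    (pow_ne_one_of_lt_orderOf (by positivity) (by rw [ho]; have := Nat.two_pow_pos m; omega))
  refine ⟨2 ^ m, ⟨m, rfl⟩, ho, h.dsq h.ht, ?_, fun g => ?_⟩
  · rw [h.tx, ← h1, zpow_sub_one, ← zpow_natCast]
    push_cast
    exact ((Commute.refl _).inv_left.zpow_right _).eq
  · rw [h.mem_D]
    exact ⟨fun e => e.elim (fun ⟨i, e⟩ => ⟨i, Or.inl e.symm⟩) fun ⟨i, e⟩ => ⟨i, Or.inr (by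
      rw [show (u * t) ^ i = g * t⁻¹ from e, inv_mul_cancel_right])⟩,
      fun ⟨i, e⟩ => e.imp (fun e => ⟨i, e.symm⟩) fun e => ⟨i, by rw [e, mul_inv_cancel_right]⟩⟩

end Qd

end CfsgLib.StdG.Fk
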